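import Cfsg.Agent.H754.FC.Sec

/-!
# S5764, StmtRed, case (I): `A` of dimension 1 (helper200)
-/

set_option autoImplicit false

namespace Cfsg.Agent.H200.FC

open Cfsg.Agent.H198.FC Cfsg.Agent.H754.FC Module

universe u v

section

variable {K : Type u} [Field K] {V : Type v} [AddCommGroup V] [Module K V]

/-- linearly independent families are conjugate -/
theorem exists_equiv {ι : Type*} [Finite ι] {v v' : ι → V} (hv : LinearIndependent K v)
    (hv' : LinearIndependent K v') : ∃ g : V ≃ₗ[K] V, ∀ i, g (v i) = v' i := by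
  have : FiniteDimensional K (Submodule.span K (Set.range v)) := FiniteDimensional.span_of_finite K (Set.finite_range _)
  let f := hv.linearCombinationEquiv.symm ≪≫ₗ hv'.linearCombinationEquiv
  obtain ⟨g, hg⟩ := Submodule.exists_linearEquiv_restrict_eq f
  refine ⟨g, fun i => ?_⟩
  have h1 := hg (hv.linearCombinationEquiv (Finsupp.single i 1))
  rw [LinearEquiv.trans_apply, LinearEquiv.symm_apply_apply] at h1
  rw [LinearIndependent.linearCombinationEquiv_apply_coe, LinearIndependent.linearCombinationEquiv_apply_coe] at h1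
  simpa using h1.symm

theorem exists_equiv_one {v v' : V} (hv : v ≠ 0) (hv' : v' ≠ 0) : ∃ g : V ≃ₗ[K] V, g v = v' := by
  obtain ⟨g, hg⟩ := exists_equiv (K := K) (v := fun _ : Unit => v) (v' := fun _ : Unit => v')
    (linearIndependent_unique_iff.2 hv) (linearIndependent_unique_iff.2 hv')
  exact ⟨g, hg ()⟩

/-- the conclusion for `S` -/
def Cn (S : Subgroup (Equiv.Perm V)) (K : Type u) [Field K] [Module K V] : Prop :=
  ∃ x : Fin 4 → (V ≃ₗ[K] V), ∀ g ∈ S,
    (∀ i, ((x i).toEquiv : Equiv.Perm V) * g * ((x i).toEquiv : Equiv.Perm V)⁻¹ ∈ S) → ∃ a : Kˣ, g = hm K V a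

theorem of_y {S : Subgroup (Equiv.Perm V)} (y : Fin 4 → (V ≃ₗ[K] V))
    (h : ∀ g ∈ S, (∀ i, ((y i).toEquiv : Equiv.Perm V)⁻¹ * g * ((y i).toEquiv : Equiv.Perm V) ∈ S) →
      ∃ a : Kˣ, g = hm K V a) : Cn S K :=
  ⟨fun i => (y i).symm, fun g hg hi => h g hg fun i => hi i⟩

theorem fin_of {S : Subgroup (Equiv.Perm V)} {A : Submodule K V} {w : Fin 3 → V} (h : Sec S A ⊤ w)
    {g : Equiv.Perm V} (hg : g ∈ S) (y : V ≃ₗ[K] V)
    (hy : (y.toEquiv : Equiv.Perm V)⁻¹ * g * (y.toEquiv : Equiv.Perm V) ∈ S) (c : Kˣ)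
    (h0 : ∀ j, g (w j) = (c : K) • w j) (h1 : ∀ j, g (y (w j)) = (c : K) • y (w j))
    (hA : ∀ v ∈ A, y.symm v ∈ A → v = 0) : g = hm K V c := by
  have e0 := h.scalar hg (c := c) (fun j => by rw [h0, sub_self]; exact A.zero_mem)
  have e1 := h.scalar hy (c := c) (fun j => by
    change y.symm (g (y (w j))) - (c : K) • w j ∈ A
    rw [h1, map_smul, LinearEquiv.symm_apply_apply, sub_self]
    exact A.zero_mem)
  apply Equiv.ext
  intro v
  rw [hm_apply, ← sub_eq_zero]
  apply hA _ (e0 v trivial)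
  have e2 := e1 (y.symm v) trivial
  change y.symm (g (y (y.symm v))) - (c : K) • y.symm v ∈ A at e2
  rwa [LinearEquiv.apply_symm_apply, ← map_smul, ← map_sub] at e2

/-- an element of the conjugate of `S` fixes the conjugate point -/
theorem pt_of {S : Subgroup (Equiv.Perm V)} {A : Submodule K V} {w : Fin 3 → V} (h : Sec S A ⊤ w)
    {a : V} (ha : ∀ v ∈ A, ∃ c : K, v = c • a) (haA : a ∈ A) {g : Equiv.Perm V} (y : V ≃ₗ[K] V)
    (hy : (y.toEquiv : Equiv.Perm V)⁻¹ * g * (y.toEquiv : Equiv.Perm V) ∈ S) :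
    ∃ c : K, g (y a) = c • y a := by
  obtain ⟨c, hc⟩ := ha _ (h.invA _ hy a haA)
  change y.symm (g (y a)) = c • a at hc
  refine ⟨c, ?_⟩
  rw [← map_smul, ← hc, LinearEquiv.apply_symm_apply]

/-- the frame argument: four independent vectors and their sum -/
theorem frame_eq {g : Equiv.Perm V} (hg : g ∈ Semi K V) {m : ℕ} {e : Fin m → V} (he : LinearIndependent K e)
    (l : Fin m → K) (hl : ∀ i, g (e i) = l i • e i) (c : K) (hc : g (∑ i, e i) = c • ∑ i, e i) :
    ∀ i, l i = c := by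
  have h1 : g (∑ i, e i) = ∑ i, g (e i) := by
    let G : V →+ V := ⟨⟨g, semi_zero hg⟩, semi_add hg⟩
    exact map_sum G e Finset.univ
  rw [h1, Finset.smul_sum, ← sub_eq_zero, ← Finset.sum_sub_distrib] at hc
  have h2 : ∑ i, (l i - c) • e i = 0 := by
    rw [← hc]
    apply Finset.sum_congr rfl
    intro i _
    rw [hl, sub_smul]
  intro i
  exact sub_eq_zero.1 (Fintype.linearIndependent_iff.1 he _ h2 i)

end

end Cfsg.Agent.H200.FC
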