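import Cfsg.Agent.H200.FC.RedA

/-!
# S5764, StmtRed, case (I): `A` of dimension 1 (helper200)
-/

set_option autoImplicit false

namespace Cfsg.Agent.H200.FC

open Cfsg.Agent.H198.FC Cfsg.Agent.H754.FC Module

universe u v

section

variable {K : Type u} [Field K] {V : Type v} [AddCommGroup V] [Module K V]

/-- a subspace is contained in subspaces of every larger dimension -/
theorem exists_sup [Module.Finite K V] (W : Submodule K V) (k : ℕ) (h : finrank K W + k ≤ finrank K V) :
    ∃ V0 : Submodule K V, W ≤ V0 ∧ finrank K V0 = finrank K W + k := by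
  induction k with
  | zero => exact ⟨W, le_rfl, rfl⟩
  | succ k ih =>
    obtain ⟨V0, h1, h2⟩ := ih (by omega)
    have h3 : V0 ≠ ⊤ := by
      rintro rfl
      rw [finrank_top] at h2
      omega
    obtain ⟨v, hv⟩ : ∃ v, v ∉ V0 := by
      by_contra hcon
      push Not at hcon
      exact h3 (eq_top_iff.2 fun v _ => hcon v)
    refine ⟨V0 ⊔ Submodule.span K {v}, h1.trans le_sup_left, ?_⟩
    rw [Submodule.finrank_sup_span_singleton hv, h2]
    omega

/-- a generator of the field -/
theorem exists_gen (K : Type u) [Field K] [Finite K] :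
    ∃ γ : K, γ ≠ 0 ∧ ∀ σ : K ≃+* K, σ γ = γ → ∀ t, σ t = t := by
  obtain ⟨g, hg⟩ := IsCyclic.exists_generator (α := Kˣ)
  refine ⟨g, g.ne_zero, fun σ hσ t => ?_⟩
  by_cases ht : t = 0
  · rw [ht, map_zero]
  obtain ⟨k, hk⟩ := hg (Units.mk0 t ht)
  have h5 : t = ((g ^ k : Kˣ) : K) := by
    change g ^ k = Units.mk0 t ht at hk
    rw [hk]
    rfl
  rw [h5, Units.val_zpow_eq_zpow_val, map_zpow₀, hσ]

/-- a basis of `V0` starting with a given vector, as a family in `V` -/
theorem exists_fam [Module.Finite K V] {m : ℕ} (V0 : Submodule K V) (h0 : finrank K V0 = m + 1) {a : V} (ha : a ≠ 0)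
    (haV : a ∈ V0) : ∃ e : Fin (m + 1) → V, LinearIndependent K e ∧ e 0 = a ∧ (∀ i, e i ∈ V0) ∧
      ∀ v ∈ V0, ∃ c : Fin (m + 1) → K, v = ∑ i, c i • e i := by
  let b := Module.finBasisOfFinrankEq K V0 h0
  have hb0 : b 0 ≠ 0 := b.ne_zero 0
  have ha' : (⟨a, haV⟩ : V0) ≠ 0 := fun h => ha (congrArg Subtype.val h)
  obtain ⟨f, hf⟩ := exists_equiv_one (K := K) hb0 ha'
  let b' := b.map f
  refine ⟨fun i => (b' i : V), b'.linearIndependent.map' V0.subtype V0.ker_subtype, ?_, fun i => (b' i).2,
    fun v hv => ?_⟩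
  · change ((b.map f 0 : V0) : V) = a
    rw [Basis.map_apply, hf]
  · refine ⟨fun i => b'.repr ⟨v, hv⟩ i, ?_⟩
    have h1 := congrArg Subtype.val (b'.sum_repr ⟨v, hv⟩)
    rw [Submodule.coe_sum] at h1
    exact h1.symm

theorem app_sum {g : Equiv.Perm V} (hg : g ∈ Semi K V) {ι : Type*} (s : Finset ι) (f : ι → V) :
    g (∑ i ∈ s, f i) = ∑ i ∈ s, g (f i) := by
  let G : V →+ V := ⟨⟨g, semi_zero hg⟩, semi_add hg⟩
  exact map_sum G f s

theorem li_comp {m : ℕ} {e e' : Fin m → V} (he : LinearIndependent K e) (π : Equiv.Perm (Fin m))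
    (h : ∀ i, e' i = e (π i)) : LinearIndependent K e' := by
  have : e' = e ∘ π := funext h
  rw [this]
  exact he.comp π π.injective

/-- disjointness of two points -/
theorem disj_of {m : ℕ} {e : Fin m → V} (he : LinearIndependent K e) {i j : Fin m} (hij : i ≠ j)
    {A : Submodule K V} (hA : ∀ v ∈ A, ∃ c : K, v = c • e i) (y : V ≃ₗ[K] V) (hy : y (e i) = e j) :
    ∀ v ∈ A, y.symm v ∈ A → v = 0 := by
  intro v hv hv'
  obtain ⟨c, hc⟩ := hA v hv
  obtain ⟨d, hd⟩ := hA _ hv'
  have h1 : v = d • e j := by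
    rw [← hy, ← map_smul, ← hd, LinearEquiv.apply_symm_apply]
  have h2 : LinearIndependent K ![e i, e j] := by
    have h3 := he.comp ![i, j] (by
      intro a b hab
      fin_cases a <;> fin_cases b <;> simp_all)
    convert h3 using 1
    funext a
    fin_cases a <;> rfl
  have h3 : c • e i + (-d) • e j = 0 := by
    rw [neg_smul, ← hc, ← h1, add_neg_cancel]
  have h4 := (LinearIndependent.pair_iff.1 h2) c (-d) h3
  rw [hc, h4.1, zero_smul]

/-- **case (I), `a = 1`** -/
theorem red_pt [Finite K] [Module.Finite K V] {S : Subgroup (Equiv.Perm V)} {A : Submodule K V} {w : Fin 3 → V}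
    (h : Sec S A ⊤ w) (ha : finrank K A = 1) (hn : 3 ≤ finrank K V) : Cn S K := by
  obtain ⟨a0, ha0, hA⟩ := finrank_eq_one_iff'.1 ha
  obtain ⟨a, haA⟩ := a0
  have ha' : a ≠ 0 := fun h => ha0 (Subtype.ext h)
  have hA' : ∀ v ∈ A, ∃ c : K, v = c • a := fun v hv => by
    obtain ⟨c, hc⟩ := hA ⟨v, hv⟩
    exact ⟨c, (congrArg Subtype.val hc).symm⟩
  have zero_of : ∀ g ∈ S, ∀ c : K, g a = c • a → c ≠ 0 := by
    rintro g hg c hc rfl
    rw [zero_smul, ← semi_zero (h.semi hg)] at hc
    exact ha' (g.injective hc)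
  by_cases hli : LinearIndependent K ![a, w 0, w 1, w 2]
  · -- the frame
    obtain ⟨e, he⟩ : ∃ e : Fin 4 → V, e = ![a, w 0, w 1, w 2] := ⟨_, rfl⟩
    have e0 : e 0 = a := by rw [he]; rfl
    have e1 : e 1 = w 0 := by rw [he]; rfl
    have e2 : e 2 = w 1 := by rw [he]; rfl
    have e3 : e 3 = w 2 := by rw [he]; rfl
    rw [← he] at hli
    have hli' : LinearIndependent K ![w 0, a, w 1, w 2] := by
      refine li_comp hli (Equiv.swap 0 1) fun i => ?_
      fin_cases i
      · exact e1.symm
      · exact e0.symm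
      · exact e2.symm
      · exact e3.symm
    obtain ⟨y0, hy0⟩ := exists_equiv hli hli'
    have y00 : y0 a = w 0 := by rw [← e0]; exact hy0 0
    have y01 : y0 (w 0) = a := by rw [← e1]; exact hy0 1
    have y02 : y0 (w 1) = w 1 := by
      have := hy0 2
      rw [e2] at this
      exact this
    have y03 : y0 (w 2) = w 2 := by
      have := hy0 3
      rw [e3] at this
      exact this
    have hw1 : w 1 ≠ 0 := by rw [← e2]; exact hli.ne_zero 2
    have hw2 : w 2 ≠ 0 := by rw [← e3]; exact hli.ne_zero 3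
    have hs : ∑ i, e i ≠ 0 := by
      intro h0
      have := Fintype.linearIndependent_iff.1 hli (fun _ => 1) (by simpa using h0) 0
      exact one_ne_zero this
    obtain ⟨y1, hy1⟩ := exists_equiv_one (K := K) ha' hw1
    obtain ⟨y2, hy2⟩ := exists_equiv_one (K := K) ha' hw2
    obtain ⟨y3, hy3⟩ := exists_equiv_one (K := K) ha' hs
    refine of_y ![y0, y1, y2, y3] fun g hg hi => ?_
    obtain ⟨l0, hl0⟩ := hA' _ (h.invA g hg a haA)
    obtain ⟨l1, hl1⟩ := pt_of h hA' haA y0 (hi 0)
    obtain ⟨l2, hl2⟩ := pt_of h hA' haA y1 (hi 1)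
    obtain ⟨l3, hl3⟩ := pt_of h hA' haA y2 (hi 2)
    obtain ⟨c, hc⟩ := pt_of h hA' haA y3 (hi 3)
    rw [y00] at hl1
    rw [hy1] at hl2
    rw [hy2] at hl3
    rw [hy3] at hc
    have hl := frame_eq (h.semi hg) hli ![l0, l1, l2, l3] (fun i => by
      fin_cases i
      · change g (e 0) = l0 • e 0
        rw [e0, hl0]
      · change g (e 1) = l1 • e 1
        rw [e1, hl1]
      · change g (e 2) = l2 • e 2
        rw [e2, hl2]
      · change g (e 3) = l3 • e 3
        rw [e3, hl3]) c hc
    have hc0 : l0 = c := hl 0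
    have hc1 : l1 = c := hl 1
    have hc2 : l2 = c := hl 2
    have hc3 : l3 = c := hl 3
    rw [hc0] at hl0
    rw [hc1] at hl1
    rw [hc2] at hl2
    rw [hc3] at hl3
    have hcne := zero_of g hg c hl0
    refine ⟨Units.mk0 c hcne, fin_of h hg y0 (hi 0) _ (fun j => ?_) (fun j => ?_) ?_⟩
    · fin_cases j
      · exact hl1
      · exact hl2
      · exact hl3
    · fin_cases j
      · change g (y0 (w 0)) = c • y0 (w 0)
        rw [y01, hl0]
      · change g (y0 (w 1)) = c • y0 (w 1)
        rw [y02, hl2]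
      · change g (y0 (w 2)) = c • y0 (w 2)
        rw [y03, hl3]
    · refine disj_of hli (i := 0) (j := 1) (by decide) (fun v hv => ?_) y0 ?_
      · rw [e0]
        exact hA' v hv
      · rw [e0, e1]
        exact y00
  · -- five points of a plane
    have h4 : finrank K (Submodule.span K (Set.range ![a, w 0, w 1, w 2])) ≤ 3 := by
      have h5 := finrank_range_le_card (R := K) ![a, w 0, w 1, w 2]
      rw [Fintype.card_fin] at h5
      rcases Nat.lt_or_ge (Set.finrank K (Set.range ![a, w 0, w 1, w 2])) 4 with h6 | h6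
      · exact Nat.le_of_lt_succ h6
      · exact absurd (linearIndependent_iff_card_le_finrank_span.2 (by rw [Fintype.card_fin]; exact h6)) hli
    obtain ⟨V0, hV0, hV0'⟩ := exists_sup (Submodule.span K (Set.range ![a, w 0, w 1, w 2]))
      (3 - finrank K (Submodule.span K (Set.range ![a, w 0, w 1, w 2]))) (by omega)
    have hV3 : finrank K V0 = 2 + 1 := by omega
    have memV : ∀ i, ![a, w 0, w 1, w 2] i ∈ V0 := fun i => hV0 (Submodule.subset_span ⟨i, rfl⟩)
    have haV : a ∈ V0 := memV 0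
    have hwV : ∀ j, w j ∈ V0 := fun j => by
      fin_cases j
      · exact memV 1
      · exact memV 2
      · exact memV 3
    obtain ⟨e, he, e0, heV, hsp⟩ := exists_fam V0 hV3 ha' haV
    obtain ⟨γ, hγ0, hγ⟩ := exists_gen K
    have he' : LinearIndependent K ![e 1, e 0, e 2] := by
      refine li_comp he (Equiv.swap 0 1) fun i => ?_
      fin_cases i <;> rfl
    obtain ⟨y0, hy0⟩ := exists_equiv he he'
    have y00 : y0 (e 0) = e 1 := hy0 0
    have y01 : y0 (e 1) = e 0 := hy0 1
    have y02 : y0 (e 2) = e 2 := hy0 2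
    have hs : ∑ i, e i ≠ 0 := by
      intro h0
      have := Fintype.linearIndependent_iff.1 he (fun _ => 1) (by simpa using h0) 0
      exact one_ne_zero this
    have hs' : e 0 + e 1 + γ • e 2 ≠ 0 := by
      intro h0
      have := Fintype.linearIndependent_iff.1 he ![1, 1, γ] (by
        rw [Fin.sum_univ_three]
        simpa using h0) 0
      exact one_ne_zero this
    have he2 : e 2 ≠ 0 := he.ne_zero 2
    obtain ⟨y1, hy1⟩ := exists_equiv_one (K := K) ha' he2
    obtain ⟨y2, hy2⟩ := exists_equiv_one (K := K) ha' hs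
    obtain ⟨y3, hy3⟩ := exists_equiv_one (K := K) ha' hs'
    refine of_y ![y0, y1, y2, y3] fun g hg hi => ?_
    obtain ⟨l0, hl0⟩ := hA' _ (h.invA g hg a haA)
    obtain ⟨l1, hl1⟩ := pt_of h hA' haA y0 (hi 0)
    obtain ⟨l2, hl2⟩ := pt_of h hA' haA y1 (hi 1)
    obtain ⟨c, hc⟩ := pt_of h hA' haA y2 (hi 2)
    obtain ⟨d, hd⟩ := pt_of h hA' haA y3 (hi 3)
    rw [← e0, y00] at hl1
    rw [hy1] at hl2
    rw [hy2] at hc
    rw [hy3] at hd
    have hl := frame_eq (h.semi hg) he ![l0, l1, l2] (fun i => by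
      fin_cases i
      · change g (e 0) = l0 • e 0
        rw [e0, hl0]
      · exact hl1
      · exact hl2) c hc
    have hc0 : l0 = c := hl 0
    have hc1 : l1 = c := hl 1
    have hc2 : l2 = c := hl 2
    rw [hc0] at hl0
    rw [hc1] at hl1
    rw [hc2] at hl2
    have hcne := zero_of g hg c hl0
    rw [← e0] at hl0
    have gadd := semi_add (h.semi hg)
    obtain ⟨-, σ, hσ⟩ := h.semi hg
    have hσγ : σ γ = γ := by
      rw [gadd, gadd, hσ, hl0, hl1, hl2] at hd
      have h7 := Fintype.linearIndependent_iff.1 he ![c - d, c - d, σ γ * c - d * γ] (by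
        rw [Fin.sum_univ_three]
        change (c - d) • e 0 + (c - d) • e 1 + (σ γ * c - d * γ) • e 2 = 0
        rw [sub_smul, sub_smul, sub_smul, mul_smul, mul_smul]
        rw [smul_add, smul_add] at hd
        rw [← sub_eq_zero] at hd
        rw [← hd]
        abel)
      have h8 : c - d = 0 := h7 0
      have h9 : σ γ * c - d * γ = 0 := h7 2
      have h10 : d = c := (sub_eq_zero.1 h8).symm
      rw [h10] at h9
      apply mul_right_cancel₀ hcne
      linear_combination h9
    have hσ1 := hγ σ hσγ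
    have hgV : ∀ v ∈ V0, g v = c • v := fun v hv => by
      obtain ⟨k, rfl⟩ := hsp v hv
      rw [app_sum (h.semi hg), Finset.smul_sum]
      apply Finset.sum_congr rfl
      intro i _
      rw [hσ, hσ1, smul_comm c]
      congr 1
      fin_cases i
      · exact hl0
      · exact hl1
      · exact hl2
    have hyV : ∀ v ∈ V0, y0 v ∈ V0 := fun v hv => by
      obtain ⟨k, rfl⟩ := hsp v hv
      rw [map_sum]
      apply Submodule.sum_mem
      intro i _
      rw [map_smul]
      apply Submodule.smul_mem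
      fin_cases i
      · change y0 (e 0) ∈ V0
        rw [y00]
        exact heV 1
      · change y0 (e 1) ∈ V0
        rw [y01]
        exact heV 0
      · change y0 (e 2) ∈ V0
        rw [y02]
        exact heV 2
    refine ⟨Units.mk0 c hcne, fin_of h hg y0 (hi 0) _ (fun j => hgV _ (hwV j))
      (fun j => hgV _ (hyV _ (hwV j))) ?_⟩
    refine disj_of he (i := 0) (j := 1) (by decide) (fun v hv => ?_) y0 y00
    rw [e0]
    exact hA' v hv

end

end Cfsg.Agent.H200.FC
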