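import Cfsg.Agent.H200.FC.RedB

/-!
# S5764, StmtRed, case (I): `A` of dimension 2; `red_one` (helper200)
-/

set_option autoImplicit false

namespace Cfsg.Agent.H200.FC

open Cfsg.Agent.H198.FC Cfsg.Agent.H754.FC Module

universe u v

section

variable {K : Type u} [Field K] {V : Type v} [AddCommGroup V] [Module K V]

/-- `RIGID5(2,5)`: five rigid planes in a 5-dimensional space -/
theorem rigid_two_five {e : Fin 5 → V} (he : LinearIndependent K e) {γ : K} (hγ0 : γ ≠ 0)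
    (hγ : ∀ σ : K ≃+* K, σ γ = γ → ∀ t, σ t = t) {k : Equiv.Perm V} (hk : k ∈ Semi K V)
    (h0 : ∃ c d : K, k (e 0) = c • e 0 + d • e 1) (h0' : ∃ c d : K, k (e 1) = c • e 0 + d • e 1)
    (h1 : ∃ c d : K, k (e 2) = c • e 2 + d • e 3) (h1' : ∃ c d : K, k (e 3) = c • e 2 + d • e 3)
    (h2 : ∃ c d : K, k (e 0 + e 2) = c • (e 0 + e 2) + d • (e 1 + e 3))
    (h2' : ∃ c d : K, k (e 1 + e 3) = c • (e 0 + e 2) + d • (e 1 + e 3))
    (h3 : ∃ c d : K, k (e 0 + e 4) = c • (e 0 + e 4) + d • (e 1 + e 2))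
    (h3' : ∃ c d : K, k (e 1 + e 2) = c • (e 0 + e 4) + d • (e 1 + e 2))
    (h4 : ∃ c d : K, k (e 0 + γ • e 3) = c • (e 0 + γ • e 3) + d • (e 1 + e 4))
    (h4' : ∃ c d : K, k (e 1 + e 4) = c • (e 0 + γ • e 3) + d • (e 1 + e 4)) :
    ∃ l : K, l ≠ 0 ∧ ∀ c : Fin 5 → K, k (∑ i, c i • e i) = l • ∑ i, c i • e i := by
  have li : ∀ c0 c1 c2 c3 c4 : K, c0 • e 0 + c1 • e 1 + c2 • e 2 + c3 • e 3 + c4 • e 4 = 0 →
      c0 = 0 ∧ c1 = 0 ∧ c2 = 0 ∧ c3 = 0 ∧ c4 = 0 := fun c0 c1 c2 c3 c4 h => by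
    have h7 := Fintype.linearIndependent_iff.1 he ![c0, c1, c2, c3, c4] (by
      rw [Fin.sum_univ_five]
      exact h)
    exact ⟨h7 0, h7 1, h7 2, h7 3, h7 4⟩
  have kadd := semi_add hk
  obtain ⟨-, σ, hσ⟩ := id hk
  obtain ⟨p0, p1, hp⟩ := h0
  obtain ⟨q0, q1, hq⟩ := h0'
  obtain ⟨r0, r1, hr⟩ := h1
  obtain ⟨s0, s1, hs⟩ := h1'
  obtain ⟨t0, t1, ht⟩ := h2
  obtain ⟨u0, u1, hu⟩ := h2'
  obtain ⟨v0, v1, hv⟩ := h3
  obtain ⟨w0, w1, hw⟩ := h3'
  obtain ⟨x0, x1, hx⟩ := h4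
  obtain ⟨z0, z1, hz⟩ := h4'
  have kv := hv
  rw [kadd, hp, hr] at ht
  rw [kadd, hq, hs] at hu
  rw [kadd, hq, hr] at hw
  rw [kadd, hσ, hp, hs] at hx
  rw [kadd] at hv hz
  obtain ⟨f0, f1, f2, f3, -⟩ := li (p0 - t0) (p1 - t1) (r0 - t0) (r1 - t1) 0 (by
    rw [← sub_eq_zero] at ht
    rw [← ht]
    module)
  obtain ⟨g0, g1, g2, g3, -⟩ := li (q0 - u0) (q1 - u1) (s0 - u0) (s1 - u1) 0 (by
    rw [← sub_eq_zero] at hu
    rw [← hu]
    module)
  obtain ⟨i0, i1, i2, i3, i4⟩ := li (q0 - w0) (q1 - w1) (r0 - w1) r1 (-w0) (by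
    rw [← sub_eq_zero] at hw
    rw [← hw]
    module)
  have eq0 : q0 = 0 := by linear_combination i0 - i4
  have ep1 : p1 = 0 := by linear_combination f1 - f3 + i3
  have eq1 : q1 = p0 := by linear_combination i1 - i2 + f2 - f0
  have er0 : r0 = p0 := by linear_combination f2 - f0
  have es0 : s0 = 0 := by linear_combination g2 - g0 + eq0
  have es1 : s1 = p0 := by linear_combination g3 - g1 + eq1
  have k0 : k (e 0) = p0 • e 0 := by rw [hp, ep1, zero_smul, add_zero]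
  have k1 : k (e 1) = p0 • e 1 := by rw [hq, eq0, eq1, zero_smul, zero_add]
  have k2 : k (e 2) = p0 • e 2 := by rw [hr, er0, i3, zero_smul, add_zero]
  have k3 : k (e 3) = p0 • e 3 := by rw [hs, es0, es1, zero_smul, zero_add]
  obtain ⟨j0, j1, -, j3, -⟩ := li (p0 - x0) (p1 - x1) (σ γ * s0) (σ γ * s1 - x0 * γ) (-x1) (by
    rw [← sub_eq_zero] at hx
    rw [← hx]
    module)
  have p0ne : p0 ≠ 0 := by
    rintro rfl
    rw [zero_smul, ← semi_zero hk] at k0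
    exact he.ne_zero 0 (k.injective k0)
  have hσγ : σ γ = γ := by
    apply mul_right_cancel₀ p0ne
    rw [es1] at j3
    linear_combination j3 + γ * (-j0)
  have hσ1 := hγ σ hσγ
  obtain ⟨l0, -, l2, l3, -⟩ := li (v0 - z0 - p0) (v1 - z1 + p0) v1 (-(z0 * γ)) (v0 - z1) (by
    have h5 : k (e 0) + k (e 4) - (k (e 1) + k (e 4)) = p0 • e 0 - p0 • e 1 := by
      rw [k0, k1]
      abel
    rw [hv, hz, ← sub_eq_zero] at h5
    rw [← h5]
    module)
  have z00 : z0 = 0 := by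
    rcases mul_eq_zero.1 (neg_eq_zero.1 l3) with h6 | h6
    · exact h6
    · exact absurd h6 hγ0
  have v00 : v0 = p0 := by linear_combination l0 + z00
  have k4 : k (e 4) = p0 • e 4 := by
    rw [k0, l2, v00] at hv
    have h6 : k (e 4) = p0 • (e 0 + e 4) + (0 : K) • (e 1 + e 2) - p0 • e 0 := by
      rw [← hv]
      abel
    rw [h6]
    module
  refine ⟨p0, p0ne, fun c => ?_⟩
  rw [app_sum hk, Finset.smul_sum]
  apply Finset.sum_congr rfl
  intro i _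
  rw [hσ, hσ1, smul_comm p0]
  congr 1
  fin_cases i
  · exact k0
  · exact k1
  · exact k2
  · exact k3
  · exact k4

/-- a basis of `V0` starting with a basis of the plane `A` -/
theorem exists_fam2 [Module.Finite K V] {m : ℕ} (V0 : Submodule K V) (h0 : finrank K V0 = m + 2) (A : Submodule K V)
    (hA2 : finrank K A = 2) (hA : A ≤ V0) : ∃ e : Fin (m + 2) → V, LinearIndependent K e ∧ (∀ i, e i ∈ V0) ∧
      e 0 ∈ A ∧ e 1 ∈ A ∧ (∀ v ∈ A, ∃ c d : K, v = c • e 0 + d • e 1) ∧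
      ∀ v ∈ V0, ∃ c : Fin (m + 2) → K, v = ∑ i, c i • e i := by
  let b := Module.finBasisOfFinrankEq K V0 h0
  let bA := Module.finBasisOfFinrankEq K A hA2
  have l1 : LinearIndependent K (fun j : Fin 2 => b (Fin.castLE (by omega) j)) :=
    b.linearIndependent.comp _ (Fin.castLE_injective _)
  have l2 : LinearIndependent K (fun j : Fin 2 => (⟨(bA j : V), hA (bA j).2⟩ : V0)) := by
    have := bA.linearIndependent.map' (Submodule.inclusion hA) (Submodule.ker_inclusion _ _ _)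
    exact this
  obtain ⟨f, hf⟩ := exists_equiv (K := K) l1 l2
  let b' := b.map f
  have e0 : ((b' 0 : V0) : V) = bA 0 := congrArg Subtype.val (hf 0)
  have e1 : ((b' 1 : V0) : V) = bA 1 := congrArg Subtype.val (hf 1)
  refine ⟨fun i => (b' i : V), b'.linearIndependent.map' V0.subtype V0.ker_subtype, fun i => (b' i).2, ?_, ?_,
    fun v hv => ?_, fun v hv => ?_⟩
  · change ((b' 0 : V0) : V) ∈ A
    rw [e0]
    exact (bA 0).2
  · change ((b' 1 : V0) : V) ∈ A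
    rw [e1]
    exact (bA 1).2
  · have h1 := congrArg Subtype.val (bA.sum_repr ⟨v, hv⟩)
    rw [Submodule.coe_sum, Fin.sum_univ_two] at h1
    refine ⟨bA.repr ⟨v, hv⟩ 0, bA.repr ⟨v, hv⟩ 1, ?_⟩
    dsimp only
    rw [e0, e1]
    exact h1.symm
  · refine ⟨fun i => b'.repr ⟨v, hv⟩ i, ?_⟩
    have h1 := congrArg Subtype.val (b'.sum_repr ⟨v, hv⟩)
    rw [Submodule.coe_sum] at h1
    exact h1.symm

theorem exists_equiv_two [Module.Finite K V] {a b a' b' : V} (h : LinearIndependent K ![a, b])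
    (h' : LinearIndependent K ![a', b']) : ∃ g : V ≃ₗ[K] V, g a = a' ∧ g b = b' := by
  obtain ⟨g, hg⟩ := exists_equiv h h'
  exact ⟨g, hg 0, hg 1⟩

/-- **case (I), `a = 2`** -/
theorem red_plane [Finite K] [Module.Finite K V] {S : Subgroup (Equiv.Perm V)} {A : Submodule K V}
    {w : Fin 3 → V} (h : Sec S A ⊤ w) (ha : finrank K A = 2) (hn : 5 ≤ finrank K V) : Cn S K := by
  have h4 : finrank K (A ⊔ Submodule.span K (Set.range w) : Submodule K V) ≤ 5 := by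
    have h5 := finrank_range_le_card (R := K) w
    rw [Fintype.card_fin] at h5
    have h6 := Submodule.finrank_add_le_finrank_add_finrank A (Submodule.span K (Set.range w))
    have h7 : finrank K (Submodule.span K (Set.range w)) ≤ 3 := h5
    omega
  obtain ⟨V0, hV0, hV0'⟩ := exists_sup (A ⊔ Submodule.span K (Set.range w))
    (5 - finrank K (A ⊔ Submodule.span K (Set.range w) : Submodule K V)) (by omega)
  have hV5 : finrank K V0 = 3 + 2 := by omega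
  have hAV : A ≤ V0 := le_sup_left.trans hV0
  have hwV : ∀ j, w j ∈ V0 := fun j => hV0 (Submodule.mem_sup_right (Submodule.subset_span ⟨j, rfl⟩))
  obtain ⟨e, he, heV, heA0, heA1, hA, hsp⟩ := exists_fam2 V0 hV5 A ha hAV
  obtain ⟨γ, hγ0, hγ⟩ := exists_gen K
  have li : ∀ c0 c1 c2 c3 c4 : K, c0 • e 0 + c1 • e 1 + c2 • e 2 + c3 • e 3 + c4 • e 4 = 0 →
      c0 = 0 ∧ c1 = 0 ∧ c2 = 0 ∧ c3 = 0 ∧ c4 = 0 := fun c0 c1 c2 c3 c4 h => by
    have h7 := Fintype.linearIndependent_iff.1 he ![c0, c1, c2, c3, c4] (by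
      rw [Fin.sum_univ_five]
      exact h)
    exact ⟨h7 0, h7 1, h7 2, h7 3, h7 4⟩
  have p01 : LinearIndependent K ![e 0, e 1] := LinearIndependent.pair_iff.2 fun s t hst => by
    obtain ⟨f0, f1, -⟩ := li s t 0 0 0 (by rw [← hst]; module)
    exact ⟨f0, f1⟩
  have p2 : LinearIndependent K ![e 0 + e 2, e 1 + e 3] := LinearIndependent.pair_iff.2 fun s t hst => by
    obtain ⟨f0, f1, -⟩ := li s t s t 0 (by rw [← hst]; module)
    exact ⟨f0, f1⟩
  have p3 : LinearIndependent K ![e 0 + e 4, e 1 + e 2] := LinearIndependent.pair_iff.2 fun s t hst => by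
    obtain ⟨f0, f1, -⟩ := li s t t 0 s (by rw [← hst]; module)
    exact ⟨f0, f1⟩
  have p4 : LinearIndependent K ![e 0 + γ • e 3, e 1 + e 4] := LinearIndependent.pair_iff.2 fun s t hst => by
    obtain ⟨f0, f1, -⟩ := li s t 0 (s * γ) t (by rw [← hst]; module)
    exact ⟨f0, f1⟩
  obtain ⟨π, hπ⟩ : ∃ π : Equiv.Perm (Fin 5), π 0 = 2 ∧ π 1 = 3 ∧ π 2 = 0 ∧ π 3 = 1 ∧ π 4 = 4 := by
    refine ⟨Equiv.swap 0 2 * Equiv.swap 1 3, ?_⟩
    decide
  obtain ⟨π0, π1, π2, π3, π4⟩ := hπ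
  obtain ⟨y0, hy0⟩ := exists_equiv he (li_comp he π (e' := fun i => e (π i)) fun i => rfl)
  have y00 : y0 (e 0) = e 2 := by rw [hy0]; exact congrArg e π0
  have y01 : y0 (e 1) = e 3 := by rw [hy0]; exact congrArg e π1
  obtain ⟨y1, y10, y11⟩ := exists_equiv_two p01 p2
  obtain ⟨y2, y20, y21⟩ := exists_equiv_two p01 p3
  obtain ⟨y3, y30, y31⟩ := exists_equiv_two p01 p4
  -- elements of the conjugates
  have pt2 : ∀ {g : Equiv.Perm V} (y : V ≃ₗ[K] V),
      (y.toEquiv : Equiv.Perm V)⁻¹ * g * (y.toEquiv : Equiv.Perm V) ∈ S → ∀ v ∈ A,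
      ∃ c d : K, g (y v) = c • y (e 0) + d • y (e 1) := fun {g} y hy v hv => by
    obtain ⟨c, d, hc⟩ := hA _ (h.invA _ hy v hv)
    change y.symm (g (y v)) = c • e 0 + d • e 1 at hc
    refine ⟨c, d, ?_⟩
    rw [← map_smul, ← map_smul, ← map_add, ← hc, LinearEquiv.apply_symm_apply]
  refine of_y ![y0, y1, y2, y3] fun g hg hi => ?_
  have hgs := h.semi hg
  have a0 := hA _ (h.invA g hg _ heA0)
  have a1 := hA _ (h.invA g hg _ heA1)
  have b0 := pt2 y0 (hi 0) _ heA0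
  have b1 := pt2 y0 (hi 0) _ heA1
  have c0 := pt2 y1 (hi 1) _ heA0
  have c1 := pt2 y1 (hi 1) _ heA1
  have d0 := pt2 y2 (hi 2) _ heA0
  have d1 := pt2 y2 (hi 2) _ heA1
  have f0 := pt2 y3 (hi 3) _ heA0
  have f1 := pt2 y3 (hi 3) _ heA1
  rw [y00, y01] at b0
  rw [y00, y01] at b1
  rw [y10, y11] at c0
  rw [y10, y11] at c1
  rw [y20, y21] at d0
  rw [y20, y21] at d1
  rw [y30, y31] at f0
  rw [y30, y31] at f1
  obtain ⟨l, hl0, hl⟩ := rigid_two_five he hγ0 hγ hgs a0 a1 b0 b1 c0 c1 d0 d1 f0 f1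
  have hgV : ∀ v ∈ V0, g v = l • v := fun v hv => by
    obtain ⟨k, rfl⟩ := hsp v hv
    exact hl k
  have hyV : ∀ v ∈ V0, y0 v ∈ V0 := fun v hv => by
    obtain ⟨k, rfl⟩ := hsp v hv
    rw [map_sum]
    apply Submodule.sum_mem
    intro i _
    rw [map_smul, hy0]
    exact Submodule.smul_mem _ _ (heV _)
  refine ⟨Units.mk0 l hl0, fin_of h hg y0 (hi 0) _ (fun j => hgV _ (hwV j))
    (fun j => hgV _ (hyV _ (hwV j))) fun v hv hv' => ?_⟩
  obtain ⟨s, t, hst⟩ := hA v hv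
  obtain ⟨s', t', hst'⟩ := hA _ hv'
  have h8 : v = s' • e 2 + t' • e 3 := by
    rw [← y00, ← y01, ← map_smul, ← map_smul, ← map_add, ← hst', LinearEquiv.apply_symm_apply]
  obtain ⟨g0, g1, -⟩ := li s t (-s') (-t') 0 (by
    have h9 : v - v = 0 := sub_self v
    nth_rewrite 1 [hst] at h9
    rw [h8] at h9
    rw [← h9]
    module)
  rw [hst, g0, g1, zero_smul, zero_smul, add_zero]

/-- **case (I)** of StmtRed -/
theorem red_one [Finite K] [Module.Finite K V] {S : Subgroup (Equiv.Perm V)} {A : Submodule K V} {w : Fin 3 → V}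
    (h : Sec S A ⊤ w) (ha : finrank K A = 1 ∨ finrank K A = 2) (hn : 2 * finrank K A < finrank K V) :
    FiveV K V S := by
  refine fiveV_of_gl h ?_ fun S' _ hS' => ?_
  · rintro rfl
    rw [finrank_bot] at ha
    omega
  · rcases ha with ha | ha
    · exact red_pt hS' ha (by omega)
    · exact red_plane hS' ha (by omega)

end

end Cfsg.Agent.H200.FC
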